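import Groth.Agent.Om3.DetSeq
import Groth.Agent.RB70.AffHom
import Groth.Agent.FlatMor68.LocFree
import Groth.Agent.KDer46.Main
import Groth.Agent.EGA73.Tensor
import Groth.Prelude.Def_SGA6

/-!
Charts of finite locally free modules, exactness tested on small affine opens, tensor products and
extensions of finite locally free modules, and classes in `K₀`.
-/

set_option autoImplicit false
set_option backward.isDefEq.respectTransparency.types false
set_option linter.style.haveILetI false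

universe u

open CategoryTheory CategoryTheory.Limits AlgebraicGeometry TopologicalSpace Opposite TensorProduct

noncomputable section

namespace Groth.Agent.Kvb46

open QC70 Props58.LocFree

variable {X : Scheme.{u}} {M N M' M'' : X.Modules}

/-- The module is free of finite rank on the open. -/
def FreeOn (M : X.Modules) (W : X.Opens) : Prop :=
  ∃ k, Nonempty (Module.Basis (Fin k) Γ(X, W) Γ(M, W))

/-- A family of affine opens forming a basis of the topology. -/
def Fine (P : X.affineOpens → Prop) : Prop :=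
  ∀ (x : X) (U : X.Opens), x ∈ U → ∃ W : X.affineOpens, P W ∧ x ∈ W.1 ∧ W.1 ≤ U

theorem exists_freeOn (hM : FlatMod.IsFinLocFree M) (x : X) :
    ∃ U : X.Opens, x ∈ U ∧ ∀ W : X.Opens, W ≤ U → FreeOn M W := by
  obtain ⟨U, k, hx, ⟨i⟩⟩ := hM x
  obtain ⟨s, hs⟩ := exists_stalkBasis_of_iso i
  refine ⟨U, hx, fun W hW => ⟨k, ⟨Module.Basis.ofEquivFun (LinearEquiv.ofBijective
    (Fintype.linearCombination Γ(X, W) fun j => res M hW (s j)) ?_).symm⟩⟩⟩
  refine (congrArg Function.Bijective (funext fun a => ?_)).mp (hs.bijective hW)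
  simp [Fintype.linearCombination_apply]

theorem fine_freeOn (hM : FlatMod.IsFinLocFree M) (hN : FlatMod.IsFinLocFree N) :
    Fine (fun W : X.affineOpens => FreeOn M W.1 ∧ FreeOn N W.1) := fun x U hx => by
  obtain ⟨U₁, h₁, h₁'⟩ := exists_freeOn hM x
  obtain ⟨U₂, h₂, h₂'⟩ := exists_freeOn hN x
  obtain ⟨W, hW, hxW, hle⟩ := exists_isAffineOpen_mem_and_subset (show x ∈ U ⊓ U₁ ⊓ U₂ from ⟨⟨hx, h₁⟩, h₂⟩)
  exact ⟨⟨W, hW⟩, ⟨h₁' W fun y hy => (hle hy).1.2, h₂' W fun y hy => (hle hy).2⟩, hxW, fun y hy => (hle hy).1.1⟩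

variable {P : X.affineOpens → Prop}

theorem eq_zero_of_fine (hP : Fine P) {φ : M ⟶ N}
    (h : ∀ W, P W → ∀ s, φ.app W.1 s = 0) : φ = 0 := by
  refine Scheme.Modules.hom_ext _ _ fun U => ?_
  ext s
  refine section_ext N _ _ fun p hp => ?_
  obtain ⟨W, hW, hpW, hle⟩ := hP p U hp
  refine ⟨W.1, hle, hpW, ?_⟩
  rw [← QC70.app_res, ← QC70.app_res]
  exact (h W hW _).trans rfl

theorem mono_of_fine (hP : Fine P) {φ : M ⟶ N}
    (h : ∀ W, P W → Function.Injective (φ.app W.1)) : Mono φ :=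
  mono_of_app_injective φ fun U a b e => section_ext M a b fun p hp => by
    obtain ⟨W, hW, hpW, hle⟩ := hP p U hp
    refine ⟨W.1, hle, hpW, h W hW ?_⟩
    rw [QC70.app_res, QC70.app_res, e]

theorem epi_of_fine (hP : Fine P) {φ : M ⟶ N}
    (h : ∀ W, P W → Function.Surjective (φ.app W.1)) : Epi φ :=
  epi_of_locally_surjective φ fun U s p hp => by
    obtain ⟨W, hW, hpW, hle⟩ := hP p U hp
    obtain ⟨t, ht⟩ := h W hW (res N hle s)
    exact ⟨W.1, hle, t, hpW, ht⟩

theorem shortExact_of_fine (hP : Fine P) (S : ShortComplex X.Modules)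
    (hi : ∀ W, P W → Function.Injective (S.f.app W.1))
    (hs : ∀ W, P W → Function.Surjective (S.g.app W.1))
    (he : ∀ W, P W → ∀ y, S.g.app W.1 y = 0 → ∃ x, S.f.app W.1 x = y) : S.ShortExact := by
  haveI : Mono S.f := mono_of_fine hP hi
  haveI : Epi S.g := epi_of_fine hP hs
  haveI : Epi (kernel.lift S.g S.f S.zero) := epi_of_fine hP fun W hW z => by
    obtain ⟨x, hx⟩ := he W hW ((kernel.ι S.g).app W.1 z)
      (app_f_g (ShortComplex.mk (kernel.ι S.g) S.g (kernel.condition S.g)) W.1 z)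
    refine ⟨x, app_injective_of_mono (kernel.ι S.g) W.1 ?_⟩
    rw [← hx]
    exact congr(($(kernel.lift_ι S.g S.f S.zero)).app W.1 x)
  exact { exact := S.exact_iff_epi_kernel_lift.2 inferInstance }

/-- An epimorphism of quasi-coherent modules is surjective on affine sections. -/
theorem app_surjective_of_epi [M.IsQuasicoherent] [N.IsQuasicoherent] (φ : M ⟶ N) [Epi φ] {W : X.Opens}
    (hW : IsAffineOpen W) : Function.Surjective (φ.app W) := by
  haveI := isQuasicoherent_kernel φ
  exact app_surjective_of_isAffineOpen (ShortComplex.mk (kernel.ι φ) φ (kernel.condition φ))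
    { exact := ShortComplex.exact_of_f_is_kernel _ (kernelIsKernel φ) } hW

theorem isFinLocFree_iso (e : M ≅ N) (h : FlatMod.IsFinLocFree M) : FlatMod.IsFinLocFree N := fun x => by
  obtain ⟨U, n, hx, ⟨i⟩⟩ := h x
  exact ⟨U, n, hx, ⟨((Scheme.Modules.restrictFunctor U.ι).mapIso e).symm ≪≫ i⟩⟩

theorem isQuasicoherent_tensor (M N : X.Modules) [M.IsQuasicoherent] [N.IsQuasicoherent] :
    (CohB1.tensorMod M N).IsQuasicoherent :=
  QCTens72.isQuasicoherent_tensorMod M N

theorem isFinLocFree_tensor (hM : FlatMod.IsFinLocFree M) (hN : FlatMod.IsFinLocFree N) :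
    FlatMod.IsFinLocFree (CohB1.tensorMod M N) := by
  haveI := isQuasicoherent_of_isFinLocFree hM
  haveI := isQuasicoherent_of_isFinLocFree hN
  haveI := isQuasicoherent_tensor M N
  refine FlatMor68.LocFree.isFinLocFree_of_sections _ fun x => ?_
  obtain ⟨W, ⟨⟨k, ⟨b⟩⟩, ⟨l, ⟨c⟩⟩⟩, hxW, -⟩ := fine_freeOn hM hN x ⊤ trivial
  obtain ⟨eT, -⟩ := Mum71.exists_tensor_equiv M N W.2
  exact ⟨W.1, W.2, hxW, Module.Free.of_basis ((b.tensorProduct c).map eT),
    Module.Finite.of_basis ((b.tensorProduct c).map eT)⟩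

theorem isFinLocFree_of_shortExact (S : ShortComplex X.Modules) (hS : S.ShortExact)
    (h₁ : FlatMod.IsFinLocFree S.X₁) (h₃ : FlatMod.IsFinLocFree S.X₃) : FlatMod.IsFinLocFree S.X₂ := by
  haveI := hS.mono_f
  haveI := isQuasicoherent_of_isFinLocFree h₁
  haveI := isQuasicoherent_of_isFinLocFree h₃
  haveI := isQuasicoherent_X₂ S hS
  refine FlatMor68.LocFree.isFinLocFree_of_sections _ fun x => ?_
  obtain ⟨W, ⟨⟨k, ⟨b⟩⟩, ⟨l, ⟨c⟩⟩⟩, hxW, -⟩ := fine_freeOn h₁ h₃ x ⊤ trivial
  let a := QC70.appLinear S.f W.1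
  let g := QC70.appLinear S.g W.1
  have ha : Function.Injective a := QC70.app_injective_of_mono S.f W.1
  have hg : Function.Surjective g := app_surjective_of_isAffineOpen S hS W.2
  have hag : Function.Exact a g := fun z =>
    ⟨fun hz => exists_app_eq_of_exact S hS.exact W.1 z hz, by rintro ⟨y, rfl⟩; exact app_f_g S W.1 y⟩
  haveI : Module.Projective Γ(X, W.1) Γ(S.X₃, W.1) := Module.Projective.of_basis c
  obtain ⟨s, hs⟩ := Module.projective_lifting_property g LinearMap.id hg
  let e := (hag.splitSurjectiveEquiv ha ⟨s, hs⟩).1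
  exact ⟨W.1, W.2, hxW, Module.Free.of_basis ((b.prod c).map e.symm),
    Module.Finite.of_basis ((b.prod c).map e.symm)⟩

/-- The class of a finite locally free module. -/
abbrev cl (M : X.Modules) : SGA6.Kvb X := KZero.clSub (fun M : X.Modules => FlatMod.IsFinLocFree M) M

theorem cl_add (S : ShortComplex X.Modules) (hS : S.ShortExact) (h₁ : FlatMod.IsFinLocFree S.X₁)
    (h₂ : FlatMod.IsFinLocFree S.X₂) (h₃ : FlatMod.IsFinLocFree S.X₃) : cl S.X₂ = cl S.X₁ + cl S.X₃ :=
  KDer46.clSub_add (P := fun M : X.Modules => FlatMod.IsFinLocFree M) S hS h₁ h₂ h₃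

theorem isFinLocFree_isZero (h : IsZero M) : FlatMod.IsFinLocFree M := by
  have hsub : ∀ U : X.Opens, Subsingleton Γ(M, U) := fun U =>
    AddCommGrpCat.subsingleton_of_isZero (Functor.map_isZero (QC70.sectionsFunctor X U) h)
  haveI : M.IsQuasicoherent := isQuasicoherent_of_forall_isLocAt _ fun U hU =>
    ⟨fun f s => ⟨0, 0, (hsub _).elim _ _⟩, fun f t ht => ⟨0, (hsub _).elim _ _⟩⟩
  refine FlatMor68.LocFree.isFinLocFree_of_sections _ fun x => ?_
  obtain ⟨W, hW, hxW, -⟩ := exists_isAffineOpen_mem_and_subset (show x ∈ (⊤ : X.Opens) from trivial)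
  haveI := hsub W
  exact ⟨W, hW, hxW, Module.Free.of_subsingleton _ _, inferInstance⟩

theorem cl_iso (e : M ≅ N) (hM : FlatMod.IsFinLocFree M) : cl M = cl N := by
  obtain ⟨Z, hZ⟩ := HasZeroObject.zero (C := X.Modules)
  have h0 : cl Z = 0 := by
    let T : ShortComplex X.Modules := ShortComplex.mk (𝟙 Z) (0 : Z ⟶ Z) comp_zero
    have hT : T.ShortExact :=
      { exact := ShortComplex.exact_of_isZero_X₂ _ hZ
        epi_g := ⟨fun g h' _ => hZ.eq_of_src g h'⟩ }
    have := cl_add T hT (isFinLocFree_isZero hZ) (isFinLocFree_isZero hZ) (isFinLocFree_isZero hZ)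
    change cl Z = cl Z + cl Z at this
    exact left_eq_add.1 this
  let S : ShortComplex X.Modules := ShortComplex.mk (0 : Z ⟶ M) e.hom zero_comp
  have hS : S.ShortExact :=
    { exact := (ShortComplex.exact_iff_mono _ rfl).2 inferInstance
      mono_f := ⟨fun g h _ => hZ.eq_of_tgt g h⟩ }
  have := cl_add S hS (isFinLocFree_isZero hZ) hM (isFinLocFree_iso e hM)
  change cl M = cl Z + cl N at this
  rw [this, h0, zero_add]

end Groth.Agent.Kvb46
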