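import Groth.Agent.Kvb46.ExtFilt
import Groth.Agent.KRR40.TwistLES
import Groth.Agent.FBase64.ExtPow.Unique
import Mathlib.RingTheory.PowerSeries.Inverse
import Mathlib.RingTheory.PowerSeries.Basic

/-!
The pre-λ-ring structure on `K₀` of finite locally free modules.
-/

set_option autoImplicit false
set_option backward.isDefEq.respectTransparency.types false
set_option linter.style.haveILetI false
set_option linter.unusedVariables false

universe u v

open CategoryTheory CategoryTheory.Limits AlgebraicGeometry TopologicalSpace Opposite exteriorPower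

noncomputable section

namespace Groth.Agent.Kvb46

open QC70 Props58.LocFree Om3

variable {X : Scheme.{u}}

/-- The property of being finite locally free. -/
abbrev flfP (X : Scheme.{u}) : ObjectProperty X.Modules := fun M => FlatMod.IsFinLocFree M

/-- An additive function on bundles gives a homomorphism. -/
def homVb {G : Type v} [AddCommGroup G] (f : X.Modules → G)
    (hadd : ∀ S : ShortComplex X.Modules, S.ShortExact → FlatMod.IsFinLocFree S.X₁ → FlatMod.IsFinLocFree S.X₂ →
      FlatMod.IsFinLocFree S.X₃ → f S.X₂ = f S.X₁ + f S.X₃) : SGA6.Kvb X →+ G :=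
  QuotientAddGroup.lift _ (FreeAbelianGroup.lift fun M => f M.1) (by
    rw [KZero.relSub, AddSubgroup.closure_le]
    rintro _ ⟨S, h₁, h₂, h₃, hS, rfl⟩
    rw [SetLike.mem_coe, AddMonoidHom.mem_ker, map_sub, map_sub, FreeAbelianGroup.lift_apply_of,
      FreeAbelianGroup.lift_apply_of, FreeAbelianGroup.lift_apply_of, hadd S hS h₁ h₂ h₃]
    abel)

theorem homVb_cl {G : Type v} [AddCommGroup G] (f : X.Modules → G)
    (hadd : ∀ S : ShortComplex X.Modules, S.ShortExact → FlatMod.IsFinLocFree S.X₁ → FlatMod.IsFinLocFree S.X₂ →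
      FlatMod.IsFinLocFree S.X₃ → f S.X₂ = f S.X₁ + f S.X₃) {M : X.Modules} (hM : FlatMod.IsFinLocFree M) :
    homVb f hadd (cl M) = f M := by
  rw [homVb, cl, KZero.clSub, dif_pos hM]
  exact FreeAbelianGroup.lift_apply_of _ _

theorem hom_ext_vb {G : Type v} [AddCommGroup G] {g g' : SGA6.Kvb X →+ G}
    (h : ∀ M, FlatMod.IsFinLocFree M → g (cl M) = g' (cl M)) : g = g' := by
  refine QuotientAddGroup.addMonoidHom_ext _ (FreeAbelianGroup.lift_ext _ _ fun M => ?_)
  have := h M.1 M.2
  rw [cl, KZero.clSub, dif_pos M.2] at this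
  exact this

theorem shortExact_tensor_left {E : X.Modules} (hE : FlatMod.IsFinLocFree E) {S : ShortComplex X.Modules}
    (hS : S.ShortExact) : (S.map (DCoh.tensorBi.obj E)).ShortExact :=
  KRR40.shortExact_tensor (fun x => by
    haveI := free_stalk_of_isFinLocFree hE x
    infer_instance) hS

/-- Tensoring classes with a module. -/
def mulBy (E : X.Modules) (hE : FlatMod.IsFinLocFree E) : SGA6.Kvb X →+ SGA6.Kvb X :=
  homVb (fun F => cl (CohB1.tensorMod E F)) fun _ hS h₁ h₂ h₃ =>
    cl_add _ (shortExact_tensor_left hE hS) (isFinLocFree_tensor hE h₁) (isFinLocFree_tensor hE h₂)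
      (isFinLocFree_tensor hE h₃)

theorem mulBy_cl {E F : X.Modules} (hE : FlatMod.IsFinLocFree E) (hF : FlatMod.IsFinLocFree F) :
    mulBy E hE (cl F) = cl (CohB1.tensorMod E F) :=
  homVb_cl _ _ hF

theorem cl_tensor_comm {E F : X.Modules} (hE : FlatMod.IsFinLocFree E) (hF : FlatMod.IsFinLocFree F) :
    cl (CohB1.tensorMod E F) = cl (CohB1.tensorMod F E) :=
  cl_iso (EGA73.tensComm E F) (isFinLocFree_tensor hE hF)

open scoped Classical in
/-- The product. -/
def mulK : SGA6.Kvb X →+ SGA6.Kvb X →+ SGA6.Kvb X :=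
  homVb (fun E => if hE : FlatMod.IsFinLocFree E then mulBy E hE else 0) fun S hS h₁ h₂ h₃ => by
    rw [dif_pos h₁, dif_pos h₂, dif_pos h₃]
    refine hom_ext_vb fun F hF => ?_
    rw [AddMonoidHom.add_apply, mulBy_cl h₁ hF, mulBy_cl h₂ hF, mulBy_cl h₃ hF, cl_tensor_comm h₁ hF,
      cl_tensor_comm h₂ hF, cl_tensor_comm h₃ hF]
    exact cl_add _ (shortExact_tensor_left hF hS) (isFinLocFree_tensor hF h₁) (isFinLocFree_tensor hF h₂)
      (isFinLocFree_tensor hF h₃)

theorem mulK_cl {E F : X.Modules} (hE : FlatMod.IsFinLocFree E) (hF : FlatMod.IsFinLocFree F) :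
    mulK (cl E) (cl F) = cl (CohB1.tensorMod E F) := by
  rw [mulK, homVb_cl _ _ hE, dif_pos hE, mulBy_cl hE hF]

theorem isFinLocFree_structure : FlatMod.IsFinLocFree (Coh.structureModule X) := fun x => by
  obtain ⟨U, hx, ⟨i⟩⟩ := Mero90.isFinLocFreeOfRank_of_isInvertible (EGA73.isInvertible_structureModule (X := X)) x
  exact ⟨U, 1, hx, ⟨i⟩⟩

variable (X) in
/-- The class of the structure sheaf. -/
abbrev oneK : SGA6.Kvb X := cl (Coh.structureModule X)

theorem mulK_comm (x y : SGA6.Kvb X) : mulK x y = mulK y x :=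
  DFunLike.congr_fun (DFunLike.congr_fun (hom_ext_vb (g := mulK (X := X)) (g' := (mulK (X := X)).flip)
    fun E hE => hom_ext_vb fun F hF => by
      show mulK (cl E) (cl F) = mulK (cl F) (cl E)
      rw [mulK_cl hE hF, mulK_cl hF hE, cl_tensor_comm hE hF]) x) y

theorem mulK_assoc (x y z : SGA6.Kvb X) : mulK (mulK x y) z = mulK x (mulK y z) := by
  have h1 : ∀ E, FlatMod.IsFinLocFree E → ∀ F, FlatMod.IsFinLocFree F → ∀ z : SGA6.Kvb X,
      mulK (mulK (cl E) (cl F)) z = mulK (cl E) (mulK (cl F) z) := fun E hE F hF z =>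
    DFunLike.congr_fun (hom_ext_vb (g := mulK (mulK (cl E) (cl F))) (g' := (mulK (cl E)).comp (mulK (cl F)))
      fun G hG => by
        show mulK (mulK (cl E) (cl F)) (cl G) = mulK (cl E) (mulK (cl F) (cl G))
        rw [mulK_cl hE hF, mulK_cl hF hG, mulK_cl (isFinLocFree_tensor hE hF) hG,
          mulK_cl hE (isFinLocFree_tensor hF hG)]
        exact cl_iso (EGA73.tensAssoc' E F G) (isFinLocFree_tensor (isFinLocFree_tensor hE hF) hG)) z
  have h2 : ∀ E, FlatMod.IsFinLocFree E → ∀ y z : SGA6.Kvb X,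
      mulK (mulK (cl E) y) z = mulK (cl E) (mulK y z) := fun E hE y z =>
    DFunLike.congr_fun (hom_ext_vb (g := (mulK.flip z).comp (mulK (cl E)))
      (g' := (mulK (cl E)).comp (mulK.flip z)) fun F hF => h1 E hE F hF z) y
  exact DFunLike.congr_fun (hom_ext_vb (g := (mulK.flip z).comp (mulK.flip y))
    (g' := mulK.flip (mulK y z)) fun E hE => h2 E hE y z) x

theorem mulK_one (x : SGA6.Kvb X) : mulK (oneK X) x = x :=
  DFunLike.congr_fun (hom_ext_vb (g := mulK (oneK X)) (g' := AddMonoidHom.id _) fun F hF => by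
    rw [mulK_cl isFinLocFree_structure hF]
    exact cl_iso (EGA73.tensUnitLeft F) (isFinLocFree_tensor isFinLocFree_structure hF)) x

/-- `K₀` of bundles is a commutative ring. -/
@[instance_reducible]
def ringK : CommRing (SGA6.Kvb X) :=
  { (inferInstance : AddCommGroup (SGA6.Kvb X)) with
    mul := fun a b => mulK a b
    one := oneK X
    mul_assoc := mulK_assoc
    one_mul := mulK_one
    mul_one := fun a => (mulK_comm _ _).trans (mulK_one a)
    mul_comm := mulK_comm
    left_distrib := fun a b c => map_add (mulK a) b c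
    right_distrib := fun a b c => by
      show mulK (a + b) c = mulK a c + mulK b c
      rw [map_add, AddMonoidHom.add_apply]
    zero_mul := fun a => by
      show mulK 0 a = 0
      rw [map_zero, AddMonoidHom.zero_apply]
    mul_zero := fun a => map_zero (mulK a) }

theorem isExtPow_zero (E : X.Modules) : ExtPow.IsExtPow 0 E (Coh.structureModule X) := by
  refine ⟨fun U => (exteriorPower.zeroEquiv Γ(X, U.1) Γ(E, U.1)).symm, fun U V hV e => ?_⟩
  show X.presheaf.map (homOfLE hV).op ((exteriorPower.zeroEquiv Γ(X, U.1) Γ(E, U.1)) (ιMulti _ 0 e)) =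
    (exteriorPower.zeroEquiv Γ(X, V.1) Γ(E, V.1)) (ιMulti _ 0 _)
  rw [exteriorPower.zeroEquiv_ιMulti, exteriorPower.zeroEquiv_ιMulti, map_one]

theorem isExtPow_one (E : X.Modules) : ExtPow.IsExtPow 1 E E := by
  refine ⟨fun U => (exteriorPower.oneEquiv Γ(X, U.1) Γ(E, U.1)).symm, fun U V hV e => ?_⟩
  show res E hV ((exteriorPower.oneEquiv Γ(X, U.1) Γ(E, U.1)) (ιMulti _ 1 e)) =
    (exteriorPower.oneEquiv Γ(X, V.1) Γ(E, V.1)) (ιMulti _ 1 fun i => res E hV (e i))
  rw [exteriorPower.oneEquiv_ιMulti, exteriorPower.oneEquiv_ιMulti]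

theorem cl_unique {E L L' : X.Modules} {i : ℕ} (hE : FlatMod.IsFinLocFree E) (hL : ExtPow.IsExtPow i E L)
    (hfl : FlatMod.IsFinLocFree L) (hL' : ExtPow.IsExtPow i E L') : cl L = cl L' := by
  haveI := isQuasicoherent_of_isFinLocFree hE
  exact cl_iso (FBase64.ExtPowExists.nonempty_iso_of_isExtPow hL hL').some hfl

section Series

attribute [local instance] ringK

variable (hext : ∀ (i : ℕ) (E : X.Modules), FlatMod.IsFinLocFree E →
  ∃ L : X.Modules, FlatMod.IsFinLocFree L ∧ ExtPow.IsExtPow i E L)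

/-- The classes of the exterior powers. -/
def series {E : X.Modules} (hE : FlatMod.IsFinLocFree E) : PowerSeries (SGA6.Kvb X) :=
  PowerSeries.mk fun i => cl (hext i E hE).choose

theorem coeff_series {E L : X.Modules} {i : ℕ} (hE : FlatMod.IsFinLocFree E) (hL : ExtPow.IsExtPow i E L) :
    PowerSeries.coeff i (series hext hE) = cl L := by
  rw [series, PowerSeries.coeff_mk]
  exact cl_unique hE (hext i E hE).choose_spec.2 (hext i E hE).choose_spec.1 hL

include hext in
theorem isUnit_series {E : X.Modules} (hE : FlatMod.IsFinLocFree E) : IsUnit (series hext hE) := by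
  rw [PowerSeries.isUnit_iff_constantCoeff, ← PowerSeries.coeff_zero_eq_constantCoeff_apply,
    coeff_series hext hE (isExtPow_zero E)]
  exact isUnit_one

theorem series_mul (S : ShortComplex X.Modules) (hS : S.ShortExact) (h₁ : FlatMod.IsFinLocFree S.X₁)
    (h₂ : FlatMod.IsFinLocFree S.X₂) (h₃ : FlatMod.IsFinLocFree S.X₃) :
    series hext h₂ = series hext h₁ * series hext h₃ := by
  haveI := isQuasicoherent_of_isFinLocFree h₁
  haveI := isQuasicoherent_of_isFinLocFree h₂
  haveI := isQuasicoherent_of_isFinLocFree h₃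
  haveI : Fact S.ShortExact := ⟨hS⟩
  obtain ⟨A, hA⟩ := exists_pow (fun i => (hext i S.X₁ h₁).choose) fun i => (hext i S.X₁ h₁).choose_spec.2
  obtain ⟨B, hB⟩ := exists_pow (fun i => (hext i S.X₂ h₂).choose) fun i => (hext i S.X₂ h₂).choose_spec.2
  obtain ⟨D, hD⟩ := exists_pow (fun i => (hext i S.X₃ h₃).choose) fun i => (hext i S.X₃ h₃).choose_spec.2
  have hA' : ∀ i, FlatMod.IsFinLocFree (A.L i) := fun i => hA ▸ (hext i S.X₁ h₁).choose_spec.1
  have hD' : ∀ i, FlatMod.IsFinLocFree (D.L i) := fun i => hD ▸ (hext i S.X₃ h₃).choose_spec.1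
  ext n
  rw [PowerSeries.coeff_mul, Finset.Nat.sum_antidiagonal_eq_sum_range_succ_mk]
  simp only [series, PowerSeries.coeff_mk]
  refine (congrArg cl (congrFun hB n).symm).trans ((cl_pow S A B D (fine_chart S h₁ h₃)
    (fun i j => isFinLocFree_tensor (hA' i) (hD' j)) n).trans (Finset.sum_congr rfl fun i _ => ?_))
  show cl (CohB1.tensorMod (A.L i) (D.L (n - i))) = mulK _ _
  rw [mulK_cl (hext i S.X₁ h₁).choose_spec.1 (hext _ S.X₃ h₃).choose_spec.1, hA, hD]

open scoped Classical in
/-- The total exterior power as a unit series. -/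
def uSeries (E : X.Modules) : Additive (PowerSeries (SGA6.Kvb X))ˣ :=
  if hE : FlatMod.IsFinLocFree E then Additive.ofMul (isUnit_series hext hE).unit else 0

/-- The total exterior power on `K₀`. -/
def lamT : SGA6.Kvb X →+ Additive (PowerSeries (SGA6.Kvb X))ˣ :=
  homVb (uSeries hext) fun S hS h₁ h₂ h₃ => by
    simp only [uSeries, dif_pos h₁, dif_pos h₂, dif_pos h₃]
    refine Additive.toMul.injective (Units.ext ?_)
    show ((isUnit_series hext h₂).unit : PowerSeries (SGA6.Kvb X)) =
      (isUnit_series hext h₁).unit * (isUnit_series hext h₃).unit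
    simp only [IsUnit.unit_spec]
    exact series_mul hext S hS h₁ h₂ h₃

/-- The λ-operations. -/
def lamK (i : ℕ) (x : SGA6.Kvb X) : SGA6.Kvb X :=
  PowerSeries.coeff i ((Additive.toMul (lamT hext x)).1)

theorem lamK_cl {E L : X.Modules} {i : ℕ} (hE : FlatMod.IsFinLocFree E) (hL : ExtPow.IsExtPow i E L) :
    lamK hext i (cl E) = cl L := by
  rw [lamK, lamT, homVb_cl _ _ hE, uSeries, dif_pos hE, toMul_ofMul, IsUnit.unit_spec]
  exact coeff_series hext hE hL

theorem lamK_add (k : ℕ) (x y : SGA6.Kvb X) :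
    lamK hext k (x + y) = ∑ i ∈ Finset.range (k + 1), mulK (lamK hext i x) (lamK hext (k - i) y) := by
  rw [lamK, map_add, toMul_add, Units.val_mul, PowerSeries.coeff_mul,
    Finset.Nat.sum_antidiagonal_eq_sum_range_succ_mk]
  rfl

theorem lamK_zero (x : SGA6.Kvb X) : lamK hext 0 x = oneK X := by
  let g : SGA6.Kvb X →+ Additive (SGA6.Kvb X)ˣ :=
    (MonoidHom.toAdditive (Units.map (PowerSeries.constantCoeff (R := SGA6.Kvb X)).toMonoidHom)).comp (lamT hext)
  have hg : g = 0 := hom_ext_vb fun E hE => by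
    refine Additive.toMul.injective (Units.ext ?_)
    show PowerSeries.constantCoeff (Additive.toMul (lamT hext (cl E))).1 = (1 : SGA6.Kvb X)
    rw [← PowerSeries.coeff_zero_eq_constantCoeff_apply]
    exact lamK_cl hext hE (isExtPow_zero E)
  have := congrArg (fun u : Additive (SGA6.Kvb X)ˣ => (Additive.toMul u).1) (DFunLike.congr_fun hg x)
  rw [lamK, PowerSeries.coeff_zero_eq_constantCoeff_apply]
  exact this

theorem lamK_one (x : SGA6.Kvb X) : lamK hext 1 x = x := by
  let g : SGA6.Kvb X →+ SGA6.Kvb X := AddMonoidHom.mk' (lamK hext 1) fun a b => by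
    rw [lamK_add, Finset.sum_range_succ, Finset.sum_range_one, lamK_zero, Nat.sub_zero, Nat.sub_self,
      lamK_zero, mulK_one, mulK_comm, mulK_one, add_comm]
  exact DFunLike.congr_fun (hom_ext_vb (g := g) (g' := AddMonoidHom.id _)
    fun E hE => lamK_cl hext hE (isExtPow_one E)) x

theorem isLambdaStructureVb : SGA6.IsLambdaStructureVb X mulK (lamK hext) :=
  ⟨mulK_comm, mulK_assoc, mulK_one, fun E F hE hF => mulK_cl hE hF,
    fun i E L hE hL => lamK_cl hext hE hL, lamK_zero hext, lamK_one hext, lamK_add hext⟩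

end Series

end Groth.Agent.Kvb46
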