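import Groth.Agent.Om3.DetSeq
import Mathlib.LinearAlgebra.Matrix.SchurComplement
import Mathlib.LinearAlgebra.TensorProduct.Basis

/-!
The filtration of an exterior power of a split extension, in the algebra.
-/

set_option autoImplicit false

universe u

open exteriorPower TensorProduct

noncomputable section

namespace Groth.Agent.Kvb46

variable {R : Type u} [CommRing R] {C E Q : Type u} [AddCommGroup C] [Module R C] [AddCommGroup E] [Module R E]
  [AddCommGroup Q] [Module R Q] (f : C →ₗ[R] E) (g : E →ₗ[R] Q) {p q n : ℕ}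

/-- The product of an exterior power of the submodule with one of the module. -/
def mu (h : p + q = n) : ↥(⋀[R]^p C) ⊗[R] ↥(⋀[R]^q E) →ₗ[R] ↥(⋀[R]^n E) :=
  TensorProduct.lift <| LinearMap.mk₂ R
    (fun a b => (⟨((exteriorPower.map p f a : ↥(⋀[R]^p E)) : ExteriorAlgebra R E) * b, by
      subst h
      show _ ∈ LinearMap.range (ExteriorAlgebra.ι R (M := E)) ^ (p + q)
      rw [pow_add]
      exact Submodule.mul_mem_mul (exteriorPower.map p f a).2 b.2⟩ : ↥(⋀[R]^n E)))
    (fun a a' b => Subtype.ext (by simp [add_mul])) (fun k a b => Subtype.ext (by simp))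
    (fun a b b' => Subtype.ext (by simp [mul_add])) (fun k a b => Subtype.ext (by simp))

theorem mu_tmul_coe (h : p + q = n) (a : ↥(⋀[R]^p C)) (b : ↥(⋀[R]^q E)) :
    (mu f h (a ⊗ₜ b) : ExteriorAlgebra R E) =
      ((exteriorPower.map p f a : ↥(⋀[R]^p E)) : ExteriorAlgebra R E) * b := rfl

theorem mu_gen_coe (h : p + q = n) (v : Fin p → C) (w : Fin q → E) :
    (mu f h (ιMulti R p v ⊗ₜ ιMulti R q w) : ExteriorAlgebra R E) =
      ExteriorAlgebra.ιMulti R p (f ∘ v) * ExteriorAlgebra.ιMulti R q w := by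
  rw [mu_tmul_coe, map_apply_ιMulti, ιMulti_apply_coe, ιMulti_apply_coe]

theorem mu_gen (h : p + q = n) (v : Fin p → C) (w : Fin q → E) :
    mu f h (ιMulti R p v ⊗ₜ ιMulti R q w) =
      ιMulti R n (fun i => Fin.append (f ∘ v) w (i.cast h.symm)) := by
  subst h
  refine Subtype.ext ?_
  rw [mu_gen_coe]
  exact (Om3.DetSeq.val_ιMulti_append (f ∘ v) w).symm

/-- The map to the graded piece. -/
def piMap (p q : ℕ) : ↥(⋀[R]^p C) ⊗[R] ↥(⋀[R]^q E) →ₗ[R] ↥(⋀[R]^p C) ⊗[R] ↥(⋀[R]^q Q) :=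
  TensorProduct.map LinearMap.id (exteriorPower.map q g)

theorem piMap_gen (v : Fin p → C) (w : Fin q → E) :
    piMap g p q (ιMulti R p v ⊗ₜ ιMulti R q w) = ιMulti R p v ⊗ₜ ιMulti R q (g ∘ w) := by
  rw [piMap, TensorProduct.map_tmul, map_apply_ιMulti]
  rfl

variable (R C E) in
theorem span_gen (p q : ℕ) :
    Submodule.span R (Set.range fun vw : (Fin p → C) × (Fin q → E) => ιMulti R p vw.1 ⊗ₜ[R] ιMulti R q vw.2) =
      ⊤ := by
  rw [eq_top_iff]
  rintro z -
  induction z with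
  | zero => exact zero_mem _
  | add x y hx hy => exact add_mem hx hy
  | tmul a b =>
    have ha : a ∈ Submodule.span R (Set.range (ιMulti R p (M := C))) := by
      rw [ιMulti_span]; trivial
    have hb : b ∈ Submodule.span R (Set.range (ιMulti R q (M := E))) := by
      rw [ιMulti_span]; trivial
    induction ha using Submodule.span_induction with
    | mem a ha =>
      obtain ⟨v, rfl⟩ := ha
      induction hb using Submodule.span_induction with
      | mem b hb =>
        obtain ⟨w, rfl⟩ := hb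
        exact Submodule.subset_span ⟨(v, w), rfl⟩
      | zero => rw [tmul_zero]; exact zero_mem _
      | add x y _ _ hx hy => rw [tmul_add]; exact add_mem hx hy
      | smul r x _ hx => rw [tmul_smul]; exact Submodule.smul_mem _ r hx
    | zero => rw [zero_tmul]; exact zero_mem _
    | add x y _ _ hx hy => rw [add_tmul]; exact add_mem hx hy
    | smul r x _ hx => rw [← smul_tmul']; exact Submodule.smul_mem _ r hx

theorem hom_ext_gen {M : Type u} [AddCommGroup M] [Module R M]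
    {φ ψ : ↥(⋀[R]^p C) ⊗[R] ↥(⋀[R]^q E) →ₗ[R] M}
    (h : ∀ v w, φ (ιMulti R p v ⊗ₜ ιMulti R q w) = ψ (ιMulti R p v ⊗ₜ ιMulti R q w)) : φ = ψ :=
  LinearMap.ext_on_range (span_gen R C E p q) fun vw => h vw.1 vw.2

theorem ιMulti_eq_init_mul_last (v : Fin (p + 1) → E) :
    ExteriorAlgebra.ιMulti R (p + 1) v =
      ExteriorAlgebra.ιMulti R p (Fin.init v) * ExteriorAlgebra.ι R (v (Fin.last p)) := by
  have h := Om3.DetSeq.val_ιMulti_append (R := R) (Fin.init v) (fun _ : Fin 1 => v (Fin.last p))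
  rw [Fin.append_right_eq_snoc, Fin.snoc_init_self, ιMulti_apply_coe] at h
  rw [h]
  congr 1
  rw [ExteriorAlgebra.ιMulti_succ_apply, ExteriorAlgebra.ιMulti_zero_apply, mul_one]

/-- The next step dies in the graded piece. -/
theorem exists_mu_eq_piMap_zero (hgf : ∀ c, g (f c) = 0) (h : (p + 1) + q = n) (h' : p + (q + 1) = n)
    (x : ↥(⋀[R]^(p + 1) C) ⊗[R] ↥(⋀[R]^q E)) : ∃ z, piMap g p (q + 1) z = 0 ∧ mu f h' z = mu f h x := by
  have key : LinearMap.range (mu f h) ≤ Submodule.map (mu f h') (LinearMap.ker (piMap g p (q + 1))) := by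
    rw [LinearMap.range_eq_map, ← span_gen R C E (p + 1) q, Submodule.map_span, Submodule.span_le]
    rintro _ ⟨_, ⟨⟨v, w⟩, rfl⟩, rfl⟩
    refine ⟨ιMulti R p (Fin.init v) ⊗ₜ ιMulti R (q + 1) (Fin.cons (f (v (Fin.last p))) w), ?_, Subtype.ext ?_⟩
    · rw [SetLike.mem_coe, LinearMap.mem_ker, piMap_gen,
        AlternatingMap.map_coord_zero (ιMulti R (q + 1)) (i := 0) (by simp [hgf]), tmul_zero]
    · rw [mu_gen_coe, mu_gen_coe, ιMulti_eq_init_mul_last (f ∘ v), ExteriorAlgebra.ιMulti_succ_apply]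
      simp only [Fin.cons_zero, Matrix.vecTail, mul_assoc]
      rfl
  obtain ⟨z, hz, e⟩ := key ⟨x, rfl⟩
  exact ⟨z, hz, e⟩

/-- The wedges with one entry from the submodule. -/
def JJ (q : ℕ) : Submodule R (ExteriorAlgebra R E) :=
  LinearMap.range ((ExteriorAlgebra.ι R).comp f) * ⋀[R]^q E

theorem mul_mem_JJ (a : E) {z : ExteriorAlgebra R E} (hz : z ∈ JJ f q) :
    ExteriorAlgebra.ι R a * z ∈ JJ f (q + 1) := by
  refine Submodule.mul_induction_on hz ?_ fun x y hx hy => by rw [mul_add]; exact add_mem hx hy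
  rintro _ ⟨c, rfl⟩ y hy
  rw [← mul_assoc, LinearMap.comp_apply,
    eq_neg_of_add_eq_zero_left (ExteriorAlgebra.ι_add_mul_swap a (f c)), neg_mul, mul_assoc]
  refine neg_mem (Submodule.mul_mem_mul (LinearMap.mem_range_self ((ExteriorAlgebra.ι R).comp f) c) ?_)
  show _ ∈ LinearMap.range (ExteriorAlgebra.ι R (M := E)) ^ (q + 1)
  rw [pow_succ']
  exact Submodule.mul_mem_mul (LinearMap.mem_range_self _ a) hy

theorem sub_mem_JJ (τ : E →ₗ[R] E) (hτ : ∀ x, ∃ c, f c = x - τ x) :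
    ∀ {q : ℕ} (w : Fin (q + 1) → E),
      ExteriorAlgebra.ιMulti R (q + 1) w - ExteriorAlgebra.ιMulti R (q + 1) (τ ∘ w) ∈ JJ f q := by
  intro q
  induction q with
  | zero =>
    intro w
    obtain ⟨c, hc⟩ := hτ (w 0)
    simp only [ExteriorAlgebra.ιMulti_succ_apply, ExteriorAlgebra.ιMulti_zero_apply, mul_one,
      Function.comp_apply]
    rw [← map_sub, ← hc, ← mul_one (ExteriorAlgebra.ι R (f c))]
    refine Submodule.mul_mem_mul (LinearMap.mem_range_self ((ExteriorAlgebra.ι R).comp f) c) ?_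
    show _ ∈ LinearMap.range (ExteriorAlgebra.ι R (M := E)) ^ 0
    rw [pow_zero]
    exact Submodule.one_le.1 le_rfl
  | succ q ih =>
    intro w
    obtain ⟨c, hc⟩ := hτ (w 0)
    rw [ExteriorAlgebra.ιMulti_succ_apply (v := w), ExteriorAlgebra.ιMulti_succ_apply (v := τ ∘ w)]
    have h2 : Matrix.vecTail (τ ∘ w) = τ ∘ Matrix.vecTail w := rfl
    rw [h2, Function.comp_apply]
    have e : ExteriorAlgebra.ι R (w 0) * ExteriorAlgebra.ιMulti R (q + 1) (Matrix.vecTail w) -
        ExteriorAlgebra.ι R (τ (w 0)) * ExteriorAlgebra.ιMulti R (q + 1) (τ ∘ Matrix.vecTail w) =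
        ExteriorAlgebra.ι R (f c) * ExteriorAlgebra.ιMulti R (q + 1) (Matrix.vecTail w) +
        ExteriorAlgebra.ι R (τ (w 0)) * (ExteriorAlgebra.ιMulti R (q + 1) (Matrix.vecTail w) -
          ExteriorAlgebra.ιMulti R (q + 1) (τ ∘ Matrix.vecTail w)) := by
      rw [hc, map_sub, sub_mul, mul_sub]
      abel
    rw [e]
    refine add_mem (Submodule.mul_mem_mul (LinearMap.mem_range_self ((ExteriorAlgebra.ι R).comp f) c) ?_)
      (mul_mem_JJ f _ (ih _))
    exact (exteriorPower.ιMulti R (q + 1) (Matrix.vecTail w)).2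

/-- What dies in the graded piece comes from the next step. -/
theorem mu_mem_of_piMap_eq_zero (σ : Q →ₗ[R] E) (hσ : ∀ x, ∃ c, f c = x - σ (g x))
    (h' : p + (q + 1) = n) (h : (p + 1) + q = n) {x : ↥(⋀[R]^p C) ⊗[R] ↥(⋀[R]^(q + 1) E)}
    (hx : piMap g p (q + 1) x = 0) : mu f h' x ∈ LinearMap.range (mu f h) := by
  let D := (mu f h').comp (TensorProduct.map LinearMap.id (exteriorPower.map (q + 1) σ)) ∘ₗ piMap g p (q + 1)
  have key : LinearMap.range (mu f h' - D) ≤ LinearMap.range (mu f h) := by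
    rw [LinearMap.range_eq_map, ← span_gen R C E p (q + 1), Submodule.map_span, Submodule.span_le]
    rintro _ ⟨_, ⟨⟨v, w⟩, rfl⟩, rfl⟩
    simp only [D, LinearMap.sub_apply, LinearMap.comp_apply, piMap_gen, TensorProduct.map_tmul, LinearMap.id_apply,
      map_apply_ιMulti]
    obtain ⟨y, hy⟩ : ∃ y, (mu f h y : ExteriorAlgebra R E) =
        ExteriorAlgebra.ιMulti R p (f ∘ v) * (ExteriorAlgebra.ιMulti R (q + 1) w -
          ExteriorAlgebra.ιMulti R (q + 1) ((σ ∘ₗ g) ∘ w)) := by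
      refine Submodule.mul_induction_on
        (C := fun t => ∃ y, (mu f h y : ExteriorAlgebra R E) = ExteriorAlgebra.ιMulti R p (f ∘ v) * t)
        (sub_mem_JJ f (σ ∘ₗ g) hσ w) ?_ ?_
      · rintro _ ⟨c, rfl⟩ t ht
        refine ⟨ιMulti R (p + 1) (Fin.snoc v c) ⊗ₜ (⟨t, ht⟩ : ↥(⋀[R]^q E)), ?_⟩
        rw [mu_tmul_coe, map_apply_ιMulti, ιMulti_apply_coe, ιMulti_eq_init_mul_last, mul_assoc,
          LinearMap.comp_apply]
        simp [Fin.comp_snoc]
      · rintro a b ⟨y, hy⟩ ⟨y', hy'⟩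
        exact ⟨y + y', by rw [map_add, Submodule.coe_add, hy, hy', mul_add]⟩
    refine ⟨y, Subtype.ext ?_⟩
    rw [AddSubgroupClass.coe_sub, mu_gen_coe, mu_gen_coe, ← mul_sub]
    exact hy
  have h1 := key ⟨x, rfl⟩
  rwa [LinearMap.sub_apply, show D x = 0 by simp [D, hx], sub_zero] at h1

variable {r m : ℕ}

/-- The product kills nothing of the graded piece. -/
theorem piMap_eq_zero_of_mu_eq_zero (bC : Module.Basis (Fin r) R C) (bQ : Module.Basis (Fin m) R Q)
    (ρ : E →ₗ[R] C) (hρ : ∀ c, ρ (f c) = c) (hgf : ∀ c, g (f c) = 0) (h : p + q = n)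
    {x : ↥(⋀[R]^p C) ⊗[R] ↥(⋀[R]^q E)} (hx : mu f h x = 0) : piMap g p q x = 0 := by
  classical
  subst h
  refine ((bC.exteriorPower p).tensorProduct (bQ.exteriorPower q)).repr.injective (Finsupp.ext fun st => ?_)
  let s := Set.powersetCard.ofFinEmbEquiv.symm st.1
  let t := Set.powersetCard.ofFinEmbEquiv.symm st.2
  let ξ : Fin (p + q) → Module.Dual R E :=
    Fin.append (fun i => (bC.coord (s i)).comp ρ) (fun j => (bQ.coord (t j)).comp g)
  let φ := pairingDual R E (p + q) (ιMulti R (p + q) ξ)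
  have e : φ.comp (mu f rfl) = (((bC.exteriorPower p).tensorProduct (bQ.exteriorPower q)).coord st).comp
      (piMap g p q) := hom_ext_gen fun v w => by
    rw [LinearMap.comp_apply, LinearMap.comp_apply, mu_gen, piMap_gen, pairingDual_ιMulti_ιMulti,
      Module.Basis.coord_apply, Module.Basis.tensorProduct_repr_tmul_apply]
    rw [smul_eq_mul, exteriorPower.basis_repr_apply, exteriorPower.basis_repr_apply,
      ιMultiDual_apply_ιMulti, ιMultiDual_apply_ιMulti, ← Matrix.det_reindex_self finSumFinEquiv.symm,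
      mul_comm]
    refine Eq.trans (congrArg Matrix.det ?_) (Matrix.det_fromBlocks_zero₁₂ _
      (Matrix.of fun i j => bC.coord (s j) (ρ (w i))) _)
    ext i j
    rcases i with i | i <;> rcases j with j | j <;>
      simp [ξ, Matrix.reindex_apply, s, t, hρ, hgf]
  have := LinearMap.congr_fun e x
  rw [LinearMap.comp_apply, hx, map_zero] at this
  simpa using this.symm

theorem mu_zero_surjective (h : 0 + n = n) : Function.Surjective (mu f h) := fun x => by
  refine ⟨ιMulti R 0 (fun i => i.elim0) ⊗ₜ x, Subtype.ext ?_⟩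
  rw [mu_tmul_coe, map_apply_ιMulti, ιMulti_apply_coe, ExteriorAlgebra.ιMulti_zero_apply, one_mul]

theorem piMap_zero_injective (p : ℕ) : Function.Injective (piMap (C := C) g p 0) := by
  refine Function.LeftInverse.injective (g := TensorProduct.map LinearMap.id
    (exteriorPower.map 0 (0 : Q →ₗ[R] E))) fun x => ?_
  suffices e : (TensorProduct.map LinearMap.id (exteriorPower.map 0 (0 : Q →ₗ[R] E))).comp (piMap (C := C) g p 0) =
      (LinearMap.id : ↥(⋀[R]^p C) ⊗[R] ↥(⋀[R]^0 E) →ₗ[R] _) from LinearMap.congr_fun e x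
  refine hom_ext_gen (M := ↥(⋀[R]^p C) ⊗[R] ↥(⋀[R]^0 E)) fun v w => ?_
  rw [LinearMap.comp_apply, piMap_gen, TensorProduct.map_tmul, LinearMap.id_apply, LinearMap.id_apply,
    map_apply_ιMulti]
  exact congrArg (fun a => ιMulti R p v ⊗ₜ[R] ιMulti R 0 a) (Subsingleton.elim _ _)

theorem piMap_surjective (σ : Q →ₗ[R] E) (hσ : ∀ y, g (σ y) = y) (p q : ℕ) :
    Function.Surjective (piMap (C := C) g p q) := fun y => by
  refine ⟨TensorProduct.map LinearMap.id (exteriorPower.map q σ) y, ?_⟩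
  suffices e : (piMap g p q).comp (TensorProduct.map LinearMap.id (exteriorPower.map q σ)) =
      (LinearMap.id : ↥(⋀[R]^p C) ⊗[R] ↥(⋀[R]^q Q) →ₗ[R] _) from LinearMap.congr_fun e y
  refine hom_ext_gen (M := ↥(⋀[R]^p C) ⊗[R] ↥(⋀[R]^q Q)) fun v w => ?_
  rw [LinearMap.comp_apply, TensorProduct.map_tmul, LinearMap.id_apply, map_apply_ιMulti, piMap_gen,
    LinearMap.id_apply]
  exact congrArg (fun a => ιMulti R p v ⊗ₜ[R] ιMulti R q a) (funext fun i => hσ (w i))

end Groth.Agent.Kvb46
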