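import Groth.Agent.Kvb46.ExtAlg
import Groth.Agent.Kvb46.Local
import Mathlib.Algebra.BigOperators.Intervals

/-!
The filtration of an exterior power of the middle term of a short exact sequence of finite locally free modules.
-/

set_option autoImplicit false
set_option backward.isDefEq.respectTransparency.types false
set_option linter.style.haveILetI false
set_option maxHeartbeats 1000000

universe u

open CategoryTheory CategoryTheory.Limits AlgebraicGeometry TopologicalSpace Opposite TensorProduct exteriorPower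

noncomputable section

namespace Groth.Agent.Kvb46

open QC70 Props58.LocFree Om3

variable {X : Scheme.{u}}

/-- All exterior powers of a module, with their presentations over affine opens. -/
structure Pow (E : X.Modules) where
  /-- The powers. -/
  L : ℕ → X.Modules
  qc : ∀ p, (L p).IsQuasicoherent
  /-- The presentations. -/
  ψ : ∀ (p : ℕ) (W : X.affineOpens), ↥(⋀[Γ(X, W.1)]^p Γ(E, W.1)) ≃ₗ[Γ(X, W.1)] Γ(L p, W.1)
  hψ : ∀ (p : ℕ) (U V : X.affineOpens) (h : V.1 ≤ U.1) (x : ↥(⋀[Γ(X, U.1)]^p Γ(E, U.1))),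
    res (L p) h (ψ p U x) = ψ p V (resExt E p h x)

attribute [instance] Pow.qc

theorem exists_pow {E : X.Modules} [E.IsQuasicoherent] (L : ℕ → X.Modules)
    (h : ∀ p, ExtPow.IsExtPow p E (L p)) : ∃ P : Pow E, P.L = L := by
  choose ψ hψ using fun p => exists_psi (h p)
  exact ⟨⟨L, fun p => isQuasicoherent_of_isExtPow (h p), ψ, hψ⟩, rfl⟩

section Tensor

variable {C E : X.Modules} (A : Pow C) (B : Pow E)

/-- The tensor product of two exterior powers. -/
abbrev T (p q : ℕ) : X.Modules := CohB1.tensorMod (A.L p) (B.L q)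

/-- Sections of the tensor product over an affine open. -/
def sec (p q : ℕ) (W : X.affineOpens) :
    ↥(⋀[Γ(X, W.1)]^p Γ(C, W.1)) ⊗[Γ(X, W.1)] ↥(⋀[Γ(X, W.1)]^q Γ(E, W.1)) ≃ₗ[Γ(X, W.1)] Γ(T A B p q, W.1) :=
  (TensorProduct.congr (A.ψ p W) (B.ψ q W)).trans (Mum71.exists_tensor_equiv (A.L p) (B.L q) W.2).choose

theorem sec_tmul (p q : ℕ) (W : X.affineOpens) (a : ↥(⋀[Γ(X, W.1)]^p Γ(C, W.1)))
    (b : ↥(⋀[Γ(X, W.1)]^q Γ(E, W.1))) :
    sec A B p q W (a ⊗ₜ b) = SecTwist.tmul (A.L p) (B.L q) W.1 (A.ψ p W a) (B.ψ q W b) := by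
  rw [sec, LinearEquiv.trans_apply, TensorProduct.congr_tmul]
  exact (Mum71.exists_tensor_equiv (A.L p) (B.L q) W.2).choose_spec _ _

attribute [irreducible] sec

theorem res_sec_gen (p q : ℕ) {U V : X.affineOpens} (h : V.1 ≤ U.1) (v : Fin p → Γ(C, U.1))
    (w : Fin q → Γ(E, U.1)) :
    res (T A B p q) h (sec A B p q U (ιMulti Γ(X, U.1) p v ⊗ₜ ιMulti Γ(X, U.1) q w)) =
      sec A B p q V (ιMulti Γ(X, V.1) p (fun i => res C h (v i)) ⊗ₜ ιMulti Γ(X, V.1) q fun i => res E h (w i)) := by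
  rw [sec_tmul, sec_tmul]
  refine (SecTwist.map_tmul (A.L p) (B.L q) (homOfLE h) _ _).trans ?_
  show SecTwist.tmul (A.L p) (B.L q) V.1 (res (A.L p) h _) (res (B.L q) h _) = _
  rw [A.hψ p U V h, B.hψ q U V h, resExt_ιMulti, resExt_ιMulti]

variable {p q : ℕ} {N : X.Modules}

theorem exists_hom_of_gen
    (l : ∀ W : X.affineOpens,
      ↥(⋀[Γ(X, W.1)]^p Γ(C, W.1)) ⊗[Γ(X, W.1)] ↥(⋀[Γ(X, W.1)]^q Γ(E, W.1)) →ₗ[Γ(X, W.1)] Γ(N, W.1))
    (hl : ∀ (U V : X.affineOpens) (h : V.1 ≤ U.1) (v : Fin p → Γ(C, U.1)) (w : Fin q → Γ(E, U.1)),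
      res N h (l U (ιMulti Γ(X, U.1) p v ⊗ₜ ιMulti Γ(X, U.1) q w)) =
        l V (ιMulti Γ(X, V.1) p (fun i => res C h (v i)) ⊗ₜ ιMulti Γ(X, V.1) q fun i => res E h (w i))) :
    ∃ φ : T A B p q ⟶ N, ∀ W z, φ.app W.1 (sec A B p q W z) = l W z := by
  haveI : (T A B p q).IsQuasicoherent := isQuasicoherent_tensor _ _
  obtain ⟨φ, hφ⟩ := RB70.exists_hom_of_affine (M := T A B p q)
    (fun W => (l W).comp (sec A B p q W).symm.toLinearMap) fun V U h s => by
    obtain ⟨z, rfl⟩ := (sec A B p q U).surjective s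
    simp only [LinearMap.comp_apply, LinearEquiv.coe_coe, LinearEquiv.symm_apply_apply]
    refine DFunLike.congr_fun (semilinear_ext (resO X h)
      ((((l V).comp (sec A B p q V).symm.toLinearMap).toAddMonoidHom.comp
        (AddMonoidHom.mk' (res (T A B p q) h) (res_add h))).comp (sec A B p q U).toLinearMap.toAddMonoidHom)
      ((AddMonoidHom.mk' (res N h) (res_add h)).comp (l U).toAddMonoidHom)
      (fun r m => ?_) (fun r m => ?_) (span_gen Γ(X, U.1) Γ(C, U.1) Γ(E, U.1) p q) ?_) z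
    · simp only [AddMonoidHom.comp_apply, AddMonoidHom.mk'_apply, LinearMap.toAddMonoidHom_coe,
        LinearMap.comp_apply, LinearEquiv.coe_coe]
      rw [LinearEquiv.map_smul, res_smul h, LinearEquiv.map_smul, LinearMap.map_smul]
    · simp only [AddMonoidHom.comp_apply, AddMonoidHom.mk'_apply, LinearMap.toAddMonoidHom_coe]
      rw [LinearMap.map_smul, res_smul h]
    · rintro _ ⟨⟨v, w⟩, rfl⟩
      simp only [AddMonoidHom.comp_apply, AddMonoidHom.mk'_apply, LinearMap.toAddMonoidHom_coe,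
        LinearMap.comp_apply, LinearEquiv.coe_coe]
      rw [res_sec_gen, LinearEquiv.symm_apply_apply, hl]
  exact ⟨φ, fun W z => (hφ W _).trans (congrArg (l W) ((sec A B p q W).symm_apply_apply z))⟩

end Tensor

variable (S : ShortComplex X.Modules) (A : Pow S.X₁) (B : Pow S.X₂) (D : Pow S.X₃) {p q n : ℕ}

theorem mu_compat (h : p + q = n) (U V : X.affineOpens) (hle : V.1 ≤ U.1) (v : Fin p → Γ(S.X₁, U.1))
    (w : Fin q → Γ(S.X₂, U.1)) :
    res (B.L n) hle ((B.ψ n U).toLinearMap.comp (mu (appLinear S.f U.1) h)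
      (ιMulti Γ(X, U.1) p v ⊗ₜ ιMulti Γ(X, U.1) q w)) =
      (B.ψ n V).toLinearMap.comp (mu (appLinear S.f V.1) h)
        (ιMulti Γ(X, V.1) p (fun i => res S.X₁ hle (v i)) ⊗ₜ ιMulti Γ(X, V.1) q fun i => res S.X₂ hle (w i)) := by
      simp only [LinearMap.comp_apply, LinearEquiv.coe_coe, mu_gen]
      rw [B.hψ n U V hle, resExt_ιMulti]
      refine congrArg (B.ψ n V) (congrArg (ιMulti Γ(X, V.1) n) (funext fun i => ?_))
      generalize i.cast h.symm = j
      refine Fin.addCases (fun k => ?_) (fun k => ?_) j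
      · simp only [Fin.append_left, Function.comp_apply]
        exact (QC70.app_res S.f hle (v k)).symm
      · simp only [Fin.append_right]

/-- The map defining the filtration. -/
def muM (h : p + q = n) : T A B p q ⟶ B.L n :=
  (exists_hom_of_gen A B (fun W => (B.ψ n W).toLinearMap.comp (mu (appLinear S.f W.1) h))
    (mu_compat S B h)).choose

theorem muM_app (h : p + q = n) (W : X.affineOpens)
    (z : ↥(⋀[Γ(X, W.1)]^p Γ(S.X₁, W.1)) ⊗[Γ(X, W.1)] ↥(⋀[Γ(X, W.1)]^q Γ(S.X₂, W.1))) :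
    (muM S A B h).app W.1 (sec A B p q W z) = B.ψ n W (mu (appLinear S.f W.1) h z) :=
  (exists_hom_of_gen A B (fun W => (B.ψ n W).toLinearMap.comp (mu (appLinear S.f W.1) h)) (mu_compat S B h)).choose_spec W z

theorem pi_compat (U V : X.affineOpens) (hle : V.1 ≤ U.1) (v : Fin p → Γ(S.X₁, U.1))
    (w : Fin q → Γ(S.X₂, U.1)) :
    res (T A D p q) hle ((sec A D p q U).toLinearMap.comp (piMap (appLinear S.g U.1) p q)
      (ιMulti Γ(X, U.1) p v ⊗ₜ ιMulti Γ(X, U.1) q w)) =
      (sec A D p q V).toLinearMap.comp (piMap (appLinear S.g V.1) p q)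
        (ιMulti Γ(X, V.1) p (fun i => res S.X₁ hle (v i)) ⊗ₜ ιMulti Γ(X, V.1) q fun i => res S.X₂ hle (w i)) := by
      simp only [LinearMap.comp_apply, LinearEquiv.coe_coe, piMap_gen]
      rw [res_sec_gen]
      refine congrArg (fun a => sec A D p q V (_ ⊗ₜ ιMulti Γ(X, V.1) q a)) (funext fun k => ?_)
      exact (QC70.app_res S.g hle (w k)).symm

variable (p q) in
/-- The map to the graded piece. -/
def piM : T A B p q ⟶ T A D p q :=
  (exists_hom_of_gen A B (fun W => (sec A D p q W).toLinearMap.comp (piMap (appLinear S.g W.1) p q))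
    (pi_compat S A D)).choose

theorem piM_app (W : X.affineOpens)
    (z : ↥(⋀[Γ(X, W.1)]^p Γ(S.X₁, W.1)) ⊗[Γ(X, W.1)] ↥(⋀[Γ(X, W.1)]^q Γ(S.X₂, W.1))) :
    (piM S A B D p q).app W.1 (sec A B p q W z) = sec A D p q W (piMap (appLinear S.g W.1) p q z) :=
  (exists_hom_of_gen A B (fun W => (sec A D p q W).toLinearMap.comp (piMap (appLinear S.g W.1) p q)) (pi_compat S A D)).choose_spec W z

/-- A step of the filtration. -/
abbrev I (h : p + q = n) : X.Modules := Abelian.image (muM S A B h)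

/-- The projection to a step. -/
abbrev fac (h : p + q = n) : T A B p q ⟶ I S A B h := Abelian.factorThruImage (muM S A B h)

theorem ι_fac (h : p + q = n) (W : X.affineOpens)
    (z : ↥(⋀[Γ(X, W.1)]^p Γ(S.X₁, W.1)) ⊗[Γ(X, W.1)] ↥(⋀[Γ(X, W.1)]^q Γ(S.X₂, W.1))) :
    (Abelian.image.ι (muM S A B h)).app W.1 ((fac S A B h).app W.1 (sec A B p q W z)) =
      B.ψ n W (mu (appLinear S.f W.1) h z) :=
  (congr(($(Abelian.image.fac (muM S A B h))).app W.1 (sec A B p q W z))).trans (muM_app S A B h W z)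

theorem exists_fac (h : p + q = n) (W : X.affineOpens) (y : Γ(I S A B h, W.1)) :
    ∃ z, (fac S A B h).app W.1 (sec A B p q W z) = y := by
  haveI : (T A B p q).IsQuasicoherent := isQuasicoherent_tensor _ _
  haveI := isQuasicoherent_abelianImage (muM S A B h)
  obtain ⟨s, hs⟩ := app_surjective_of_epi (fac S A B h) W.2 y
  obtain ⟨z, rfl⟩ := (sec A B p q W).surjective s
  exact ⟨z, hs⟩

/-- Affine opens on which both outer terms are free. -/
def Chart (W : X.affineOpens) : Prop := FreeOn S.X₁ W.1 ∧ FreeOn S.X₃ W.1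

variable [hS : Fact S.ShortExact] [S.X₁.IsQuasicoherent]

/-- Splittings over a chart. -/
theorem chart_data {W : X.affineOpens} (hW : Chart S W) :
    ∃ (r m : ℕ) (_ : Module.Basis (Fin r) Γ(X, W.1) Γ(S.X₁, W.1))
      (_ : Module.Basis (Fin m) Γ(X, W.1) Γ(S.X₃, W.1))
      (σ : Γ(S.X₃, W.1) →ₗ[Γ(X, W.1)] Γ(S.X₂, W.1)) (ρ : Γ(S.X₂, W.1) →ₗ[Γ(X, W.1)] Γ(S.X₁, W.1)),
      (∀ y, appLinear S.g W.1 (σ y) = y) ∧ (∀ c, ρ (appLinear S.f W.1 c) = c) ∧
        (∀ c, appLinear S.g W.1 (appLinear S.f W.1 c) = 0) ∧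
        ∀ x, ∃ c, appLinear S.f W.1 c = x - σ (appLinear S.g W.1 x) := by
  obtain ⟨⟨r, ⟨bC⟩⟩, ⟨m, ⟨bQ⟩⟩⟩ := hW
  haveI := hS.out.mono_f
  have ha : Function.Injective (appLinear S.f W.1) := QC70.app_injective_of_mono S.f W.1
  have hg : Function.Surjective (appLinear S.g W.1) := app_surjective_of_isAffineOpen S hS.out W.2
  have h0 : ∀ c, appLinear S.g W.1 (appLinear S.f W.1 c) = 0 := app_f_g S W.1
  have hag : Function.Exact (appLinear S.f W.1) (appLinear S.g W.1) := fun z =>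
    ⟨fun hz => exists_app_eq_of_exact S hS.out.exact W.1 z hz, by rintro ⟨y, rfl⟩; exact h0 y⟩
  haveI : Module.Projective Γ(X, W.1) Γ(S.X₃, W.1) := Module.Projective.of_basis bQ
  obtain ⟨σ, hσ⟩ := Module.projective_lifting_property (appLinear S.g W.1) LinearMap.id hg
  have hσ' : ∀ y, appLinear S.g W.1 (σ y) = y := fun y => LinearMap.congr_fun hσ y
  obtain ⟨e, hef, -⟩ := hag.splitSurjectiveEquiv ha ⟨σ, hσ⟩
  refine ⟨r, m, bC, bQ, σ, (LinearMap.fst _ _ _).comp e.toLinearMap, hσ', fun c => ?_, h0, fun x => ?_⟩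
  · rw [hef]; simp
  · exact (hag _).1 (by rw [map_sub, hσ', sub_self])

theorem fine_chart (h₁ : FlatMod.IsFinLocFree S.X₁) (h₃ : FlatMod.IsFinLocFree S.X₃) : Fine (Chart S) :=
  fine_freeOn h₁ h₃

variable (hP : Fine (Chart S))

include hP in
theorem kernel_piM (h : p + q = n) : kernel.ι (fac S A B h) ≫ piM S A B D p q = 0 :=
  eq_zero_of_fine hP fun W hW s => by
    obtain ⟨r, m, bC, bQ, σ, ρ, -, hρ, h0, -⟩ := chart_data S hW
    obtain ⟨z, hz⟩ := (sec A B p q W).surjective ((kernel.ι (fac S A B h)).app W.1 s)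
    have h1 : (fac S A B h).app W.1 (sec A B p q W z) = 0 := by
      rw [hz]
      exact app_f_g (ShortComplex.mk (kernel.ι (fac S A B h)) (fac S A B h) (kernel.condition _)) W.1 s
    have h2 := (ι_fac S A B h W z).symm
    rw [h1, map_zero, LinearEquiv.map_eq_zero_iff] at h2
    show (piM S A B D p q).app W.1 ((kernel.ι (fac S A B h)).app W.1 s) = 0
    rw [← hz, piM_app, piMap_eq_zero_of_mu_eq_zero _ _ bC bQ ρ hρ h0 h h2, map_zero]

/-- The map of a step onto its graded piece. -/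
def rho (h : p + q = n) : I S A B h ⟶ T A D p q :=
  Abelian.epiDesc (fac S A B h) (piM S A B D p q) (kernel_piM S A B D hP h)

theorem rho_fac (h : p + q = n) (W : X.affineOpens)
    (z : ↥(⋀[Γ(X, W.1)]^p Γ(S.X₁, W.1)) ⊗[Γ(X, W.1)] ↥(⋀[Γ(X, W.1)]^q Γ(S.X₂, W.1))) :
    (rho S A B D hP h).app W.1 ((fac S A B h).app W.1 (sec A B p q W z)) =
      sec A D p q W (piMap (appLinear S.g W.1) p q z) :=
  (congr(($(Abelian.comp_epiDesc (fac S A B h) (piM S A B D p q) (kernel_piM S A B D hP h))).app W.1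
    (sec A B p q W z))).trans (piM_app S A B D W z)

include hP in
theorem rho_surjective (h : p + q = n) (W : X.affineOpens) (hW : Chart S W) :
    Function.Surjective ((rho S A B D hP h).app W.1) := fun y => by
  obtain ⟨r, m, bC, bQ, σ, ρ, hσ, -⟩ := chart_data S hW
  obtain ⟨t, rfl⟩ := (sec A D p q W).surjective y
  obtain ⟨z, rfl⟩ := piMap_surjective (appLinear S.g W.1) σ hσ p q t
  exact ⟨_, rho_fac S A B D hP h W z⟩

include hP in
theorem ι_cokernel (h : (p + 1) + q = n) (h' : p + (q + 1) = n) :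
    Abelian.image.ι (muM S A B h) ≫ cokernel.π (muM S A B h') = 0 := by
  rw [← cancel_epi (fac S A B h), ← Category.assoc, Abelian.image.fac, comp_zero]
  refine eq_zero_of_fine hP fun W hW s => ?_
  obtain ⟨r, m, bC, bQ, σ, ρ, -, -, h0, -⟩ := chart_data S hW
  obtain ⟨x, rfl⟩ := (sec A B (p + 1) q W).surjective s
  obtain ⟨z, -, hz⟩ := exists_mu_eq_piMap_zero _ (appLinear S.g W.1) h0 h h' x
  show (cokernel.π (muM S A B h')).app W.1 ((muM S A B h).app W.1 _) = 0
  rw [muM_app, ← hz, ← muM_app S A B h' W z]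
  exact app_f_g (ShortComplex.mk (muM S A B h') (cokernel.π (muM S A B h')) (cokernel.condition _)) W.1 _

/-- The inclusion of the next step. -/
def incl (h : (p + 1) + q = n) (h' : p + (q + 1) = n) : I S A B h ⟶ I S A B h' :=
  kernel.lift _ (Abelian.image.ι (muM S A B h)) (ι_cokernel S A B hP h h')

theorem incl_ι (h : (p + 1) + q = n) (h' : p + (q + 1) = n) :
    incl S A B hP h h' ≫ Abelian.image.ι (muM S A B h') = Abelian.image.ι (muM S A B h) :=
  kernel.lift_ι _ _ _

theorem incl_fac (h : (p + 1) + q = n) (h' : p + (q + 1) = n) (W : X.affineOpens) {x z}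
    (e : mu (appLinear S.f W.1) h' z = mu (appLinear S.f W.1) h x) :
    (incl S A B hP h h').app W.1 ((fac S A B h).app W.1 (sec A B (p + 1) q W x)) =
      (fac S A B h').app W.1 (sec A B p (q + 1) W z) := by
  refine app_injective_of_mono (Abelian.image.ι (muM S A B h')) W.1 ?_
  rw [ι_fac, e, ← ι_fac S A B h W x]
  exact congr(($(incl_ι S A B hP h h')).app W.1 _)

theorem incl_rho (h : (p + 1) + q = n) (h' : p + (q + 1) = n) :
    incl S A B hP h h' ≫ rho S A B D hP h' = 0 :=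
  eq_zero_of_fine hP fun W hW y => by
    obtain ⟨r, m, bC, bQ, σ, ρ, -, -, h0, -⟩ := chart_data S hW
    obtain ⟨x, rfl⟩ := exists_fac S A B h W y
    obtain ⟨z, hz0, hz⟩ := exists_mu_eq_piMap_zero _ (appLinear S.g W.1) h0 h h' x
    show (rho S A B D hP h').app W.1 ((incl S A B hP h h').app W.1 _) = 0
    rw [incl_fac S A B hP h h' W hz, rho_fac, hz0, map_zero]

theorem step_shortExact (h : (p + 1) + q = n) (h' : p + (q + 1) = n) :
    (ShortComplex.mk (incl S A B hP h h') (rho S A B D hP h') (incl_rho S A B D hP h h')).ShortExact := by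
  haveI : Mono (incl S A B hP h h') := mono_of_mono_fac (incl_ι S A B hP h h')
  refine shortExact_of_fine hP _ (fun W _ => app_injective_of_mono (incl S A B hP h h') W.1)
    (rho_surjective S A B D hP h') fun W hW y hy => ?_
  obtain ⟨r, m, bC, bQ, σ, ρ, -, -, -, hfσ⟩ := chart_data S hW
  obtain ⟨z, rfl⟩ := exists_fac S A B h' W y
  have hy' : sec A D p (q + 1) W (piMap (appLinear S.g W.1) p (q + 1) z) = 0 :=
    (rho_fac S A B D hP h' W z).symm.trans hy
  rw [LinearEquiv.map_eq_zero_iff] at hy'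
  obtain ⟨x, hx⟩ := mu_mem_of_piMap_eq_zero _ (appLinear S.g W.1) σ hfσ h' h hy'
  exact ⟨(fac S A B h).app W.1 (sec A B (p + 1) q W x), incl_fac S A B hP h h' W hx.symm⟩

include hP in
theorem isIso_rho_zero (h : p + 0 = n) : IsIso (rho S A B D hP h) := by
  haveI : Mono (rho S A B D hP h) := mono_of_fine hP fun W hW => by
    refine (injective_iff_map_eq_zero _).2 fun y hy => ?_
    obtain ⟨z, rfl⟩ := exists_fac S A B h W y
    rw [rho_fac, LinearEquiv.map_eq_zero_iff] at hy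
    rw [piMap_zero_injective (C := Γ(S.X₁, W.1)) (appLinear S.g W.1) p (hy.trans (map_zero _).symm),
      map_zero, map_zero]
  haveI : Epi (rho S A B D hP h) := epi_of_fine hP (rho_surjective S A B D hP h)
  exact isIso_of_mono_of_epi _

include hP in
theorem isIso_ι_full (h : 0 + n = n) : IsIso (Abelian.image.ι (muM S A B h)) := by
  haveI : Epi (Abelian.image.ι (muM S A B h)) := epi_of_fine hP fun W _ y => by
    obtain ⟨t, rfl⟩ := (B.ψ n W).surjective y
    obtain ⟨z, rfl⟩ := mu_zero_surjective (appLinear S.f W.1) h t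
    exact ⟨_, ι_fac S A B h W z⟩
  exact isIso_of_mono_of_epi _

variable (hT : ∀ i j, FlatMod.IsFinLocFree (T A D i j))

include hP hT in
theorem cl_step : ∀ (q p : ℕ) (h : p + q = n), FlatMod.IsFinLocFree (I S A B h) ∧
    cl (I S A B h) = ∑ j ∈ Finset.range (q + 1), cl (T A D (n - j) j)
  | 0, p, h => by
    haveI := isIso_rho_zero S A B D hP h
    have hI := isFinLocFree_iso (asIso (rho S A B D hP h)).symm (hT p 0)
    obtain rfl : p = n := (Nat.add_zero p).symm.trans h
    refine ⟨hI, ?_⟩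
    rw [Finset.sum_range_one, Nat.sub_zero]
    exact cl_iso (asIso (rho S A B D hP h)) hI
  | q + 1, p, h => by
    have h1 : (p + 1) + q = n := by omega
    obtain ⟨hI, hc⟩ := cl_step q (p + 1) h1
    have hE := step_shortExact S A B D hP h1 h
    have hI' := isFinLocFree_of_shortExact _ hE hI (hT p (q + 1))
    refine ⟨hI', ?_⟩
    rw [Finset.sum_range_succ, ← hc]
    have hp : p = n - (q + 1) := by omega
    subst hp
    exact cl_add _ hE hI hI' (hT _ _)

include hP hT in
/-- The class of an exterior power of an extension. -/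
theorem cl_pow (n : ℕ) : cl (B.L n) = ∑ i ∈ Finset.range (n + 1), cl (T A D i (n - i)) := by
  obtain ⟨hI, hc⟩ := cl_step S A B D hP hT n 0 (Nat.zero_add n)
  haveI := isIso_ι_full S A B hP (Nat.zero_add n)
  rw [← cl_iso (asIso (Abelian.image.ι (muM S A B (Nat.zero_add n)))) hI, hc, ← Finset.sum_range_reflect]
  refine Finset.sum_congr rfl fun i hi => ?_
  rw [Finset.mem_range] at hi
  rw [show n + 1 - 1 - i = n - i by omega, Nat.sub_sub_self (by omega)]

end Groth.Agent.Kvb46
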